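/-
Soluble groups in which every class size is square-free: supersolubility, and the structure of
`G / F(G)` and `G'`.
-/
import Mathlib
import Cfsg.Prelude.Def_SolvableStructure
import Cfsg.Agent.Lib.ClassIndex.Basic
import Cfsg.Agent.Lib.Solvable.Fitting
import Cfsg.Agent.Lib.Solvable.Supersolvable
import Cfsg.Agent.Lib.Cores.Fitting
import Cfsg.Agent.Lib.Coprime.IndexP
import Cfsg.Agent.Lib.PGroup.Basic
import Cfsg.Agent.S3777

set_option autoImplicit false
set_option linter.style.haveILetI false

open Cfsg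
open Cfsg.Agent.Solvable
open scoped commutatorElement

namespace Cfsg.Agent.SquarefreeClasses

universe u

/-- All class sizes are square-free. -/
def SqfClasses (G : Type*) [Group G] : Prop :=
  ∀ x : G, Squarefree (Subgroup.centralizer ({x} : Set G)).index

variable {G : Type u} [Group G] [Finite G]

theorem SqfClasses.normal (h : SqfClasses G) (N : Subgroup G) [N.Normal] : SqfClasses N := fun x =>
  (h x).squarefree_of_dvd (ClassIndex.index_centralizer_subgroup_dvd N x)

theorem SqfClasses.quotient (h : SqfClasses G) (N : Subgroup G) [N.Normal] :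
    SqfClasses (G ⧸ N) := by
  intro x
  obtain ⟨x, rfl⟩ := QuotientGroup.mk'_surjective N x
  exact (h x).squarefree_of_dvd
    (ClassIndex.index_centralizer_map_dvd (QuotientGroup.mk'_surjective N) x)

theorem SqfClasses.not_four (h : SqfClasses G) (x : G) :
    ¬ 4 ∣ (Subgroup.centralizer ({x} : Set G)).index := fun hd => by
  have := Nat.isUnit_iff.1 (h x 2 hd)
  omega

/-- On a normal `p`-subgroup every centraliser has index `1` or `p`. -/
theorem SqfClasses.relIndex_dvd_prime (h : SqfClasses G) {p : ℕ} [hp : Fact p.Prime]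
    {V : Subgroup G} [V.Normal] (hV : IsPGroup p V) (x : G) :
    (Subgroup.centralizer ({x} : Set G)).relIndex V ∣ p := by
  have h1 := ClassIndex.relIndex_dvd_index_of_normal_right (Subgroup.centralizer ({x} : Set G)) V
  obtain ⟨n, hn⟩ := IsPGroup.iff_card.1 hV
  obtain ⟨i, -, hi⟩ := (Nat.dvd_prime_pow hp.out).1
    (hn ▸ Subgroup.relIndex_dvd_card (H := Subgroup.centralizer ({x} : Set G)) (K := V))
  have hsq := (h x).squarefree_of_dvd h1
  rw [hi] at hsq ⊢
  rcases i with _ | _ | i
  · simp
  · simp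
  · exact absurd (Nat.isUnit_iff.1 (hsq p ⟨p ^ i, by ring⟩)) hp.out.ne_one

/-- A minimal normal subgroup of exponent `p` has order `p`. -/
theorem SqfClasses.card_minimal (h : SqfClasses G) [Group.IsSolvable G] {p : ℕ} [hp : Fact p.Prime]
    {V : Subgroup G} [hVn : V.Normal] (hV0 : V ≠ ⊥) (hab : IsMulCommutative V) (hVp : IsPGroup p V)
    (hexp : ∀ x ∈ V, x ^ p = 1)
    (hmin : ∀ K : Subgroup G, K.Normal → K ≤ V → K = ⊥ ∨ K = V) : Nat.card V = p := by
  classical
  set C := Subgroup.centralizer (V : Set G) with hC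
  by_cases hCtop : C = ⊤
  · obtain ⟨v, hv, hv1⟩ := (Subgroup.bot_or_exists_ne_one V).resolve_left hV0
    have hvc : v ∈ Subgroup.center G := Subgroup.mem_center_iff.2 fun g =>
      (Subgroup.mem_centralizer_iff.1 (hCtop ▸ Subgroup.mem_top g : g ∈ C) v hv).symm
    have hzn : (Subgroup.zpowers v).Normal := PGroup.zpowers_normal_of_mem_center hvc
    rcases hmin _ hzn (Subgroup.zpowers_le.2 hv) with h1 | h1
    · exact absurd (Subgroup.zpowers_eq_bot.1 h1) hv1
    · rw [← h1, Nat.card_zpowers]
      exact orderOf_eq_prime (hexp v hv) hv1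
  obtain ⟨A, hAn, hCA, -, hAab⟩ :=
    exists_normal_between_abelian (A := C) (B := ⊤) (lt_top_iff_ne_top.2 hCtop)
  -- fixed points of `A`
  set W := V ⊓ Subgroup.centralizer (A : Set G) with hW
  have hWn : W.Normal := inferInstance
  have hW0 : W = ⊥ := by
    refine (hmin W hWn inf_le_left).resolve_right fun he => hCA.not_ge ?_
    exact Subgroup.le_centralizer_iff.1 (he ▸ inf_le_right : V ≤ Subgroup.centralizer (A : Set G))
  -- some element of `A` acts with order prime to `p`
  obtain ⟨a, haA, haC, n, hn, han⟩ :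
      ∃ a ∈ A, a ∉ C ∧ ∃ n : ℕ, n.Coprime p ∧ a ^ n ∈ C := by
    by_contra hno
    have hpow : ∀ g ∈ A, ∃ k : ℕ, g ^ p ^ k ∈ C := by
      intro g hg
      refine ⟨(orderOf g).factorization p, ?_⟩
      by_contra hgC
      refine hno ⟨g ^ p ^ (orderOf g).factorization p, A.pow_mem hg _, hgC,
        orderOf g / p ^ (orderOf g).factorization p,
        (Nat.coprime_ordCompl hp.out (orderOf_pos g).ne').symm, ?_⟩
      rw [← pow_mul, Nat.mul_div_cancel' (Nat.ordProj_dvd _ _), pow_orderOf_eq_one]
      exact one_mem C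
    set φ : A →* MulAut V := MulAut.conjNormal.comp A.subtype with hφ
    have hQ : IsPGroup p φ.range := by
      rintro ⟨-, g, rfl⟩
      obtain ⟨k, hk⟩ := hpow g g.2
      refine ⟨k, Subtype.ext ?_⟩
      show φ g ^ p ^ k = 1
      rw [← map_pow]
      refine MulEquiv.ext fun v => Subtype.ext ?_
      show ((g ^ p ^ k : A) : G) * v * ((g ^ p ^ k : A) : G)⁻¹ = v
      push_cast
      rw [← Subgroup.mem_centralizer_iff.1 hk v v.2, mul_inv_cancel_right]
    have hdvd : p ∣ Nat.card V := by
      obtain ⟨m, hm⟩ := IsPGroup.iff_card.1 hVp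
      rcases m with _ | m
      · exact absurd (Subgroup.card_eq_one.1 (by simpa using hm)) hV0
      · exact hm ▸ dvd_pow_self p (Nat.succ_ne_zero m)
    obtain ⟨v, hv, hv1⟩ := hQ.exists_fixed_point_of_prime_dvd_card_of_fixed_point V hdvd
      (a := (1 : V)) (fun q => smul_one q)
    have hvW : (v : G) ∈ W := by
      refine ⟨v.2, Subgroup.mem_centralizer_iff.2 fun g hg => ?_⟩
      have h1 := congrArg Subtype.val (hv ⟨φ ⟨g, hg⟩, ⟨g, hg⟩, rfl⟩)
      have h2 : g * (v : G) * g⁻¹ = v := h1
      calc g * (v : G) = g * v * g⁻¹ * g := by group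
        _ = v * g := by rw [h2]
    rw [hW0, Subgroup.mem_bot] at hvW
    exact hv1 (Subtype.ext hvW.symm)
  -- `[V, a]` has order at most `p`, and `C_V(a) = C_V(A)`
  set Ca := Subgroup.centralizer ({a} : Set G) with hCa
  have hcard : ∀ b : G, (Subgroup.centralizer ({b} : Set G)).relIndex V ∣ p :=
    h.relIndex_dvd_prime hVp
  have hcomm : ∀ x ∈ V, ∀ y ∈ V, x * y = y * x := fun x hx y hy =>
    congrArg Subtype.val (hab.is_comm.comm (⟨x, hx⟩ : V) ⟨y, hy⟩)
  let f : G → (V →* V) := fun b =>
    MonoidHom.mk' (fun v => (⟨b * v * b⁻¹ * (v : G)⁻¹,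
      V.mul_mem (hVn.conj_mem _ v.2 b) (V.inv_mem v.2)⟩ : V)) (fun v w => Subtype.ext (by
        show b * ((v : G) * w) * b⁻¹ * ((v : G) * w)⁻¹ =
          b * v * b⁻¹ * (v : G)⁻¹ * (b * w * b⁻¹ * (w : G)⁻¹)
        calc b * ((v : G) * w) * b⁻¹ * ((v : G) * w)⁻¹
            = b * v * b⁻¹ * ((b * w * b⁻¹ * (w : G)⁻¹) * (v : G)⁻¹) := by group
          _ = b * v * b⁻¹ * ((v : G)⁻¹ * (b * w * b⁻¹ * (w : G)⁻¹)) := by
              rw [hcomm _ (V.mul_mem (hVn.conj_mem _ w.2 b) (V.inv_mem w.2)) _ (V.inv_mem v.2)]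
          _ = _ := by group))
  have hfv : ∀ (b : G) (v : V), ((f b v : V) : G) = b * v * b⁻¹ * (v : G)⁻¹ := fun b v => rfl
  have hker : ∀ b : G, (f b).ker = (Subgroup.centralizer ({b} : Set G)).subgroupOf V := by
    intro b
    ext v
    rw [MonoidHom.mem_ker, Subgroup.mem_subgroupOf, Subgroup.mem_centralizer_singleton_iff,
      ← Subtype.coe_inj, hfv, OneMemClass.coe_one, mul_inv_eq_one, mul_inv_eq_iff_eq_mul]
    exact eq_comm
  have hrange : ∀ b : G, Nat.card (f b).range ∣ p := fun b => by
    rw [← Subgroup.index_ker, hker]; exact hcard b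
  have hrangeEq : ∀ b : G, ∀ R : Subgroup V, R ≤ (f b).range → R ≠ ⊥ → (f b).range = R := by
    intro b R hR hR0
    refine (Subgroup.eq_of_le_of_card_ge hR ?_).symm
    rcases (Nat.dvd_prime hp.out).1 ((Subgroup.card_dvd_of_le hR).trans (hrange b)) with h1 | h1
    · exact absurd (Subgroup.card_eq_one.1 h1) hR0
    · rw [h1]; exact Nat.le_of_dvd hp.out.pos (hrange b)
  have hfixed : ∀ v : V, f a v = 1 → ∀ b ∈ A, f b v = 1 := by
    intro w hw b hb
    by_contra hwb
    -- `b` commutes with `a` on `V`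
    have hab' : ∀ v : V, a * (b * v * b⁻¹) * a⁻¹ = b * (a * v * a⁻¹) * b⁻¹ := by
      intro v
      have hc : ⁅b⁻¹, a⁻¹⁆ ∈ C :=
        hAab (Subgroup.commutator_mem_commutator (A.inv_mem hb) (A.inv_mem haA))
      have h1 := Subgroup.mem_centralizer_iff.1 hc v v.2
      rw [commutatorElement_def, inv_inv, inv_inv] at h1
      calc a * (b * v * b⁻¹) * a⁻¹
          = (a * b) * ((v : G) * (b⁻¹ * a⁻¹ * b * a)) * (b⁻¹ * a⁻¹ * b * a)⁻¹ * (a * b)⁻¹ := by group
        _ = (a * b) * ((b⁻¹ * a⁻¹ * b * a) * v) * (b⁻¹ * a⁻¹ * b * a)⁻¹ * (a * b)⁻¹ := by rw [h1]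
        _ = b * (a * v * a⁻¹) * b⁻¹ := by group
    have hwa : a * (w : G) * a⁻¹ = w := by
      have h1 : a * (w : G) * a⁻¹ * (w : G)⁻¹ = 1 := congrArg Subtype.val hw
      exact mul_inv_eq_one.1 h1
    -- `[w, b]` is fixed by `a`
    have hz : f a (f b w) = 1 := by
      refine Subtype.ext ?_
      rw [hfv, hfv, OneMemClass.coe_one, mul_inv_eq_one]
      calc a * (b * w * b⁻¹ * (w : G)⁻¹) * a⁻¹
          = (a * (b * w * b⁻¹) * a⁻¹) * (a * w * a⁻¹)⁻¹ := by group
        _ = b * w * b⁻¹ * (w : G)⁻¹ := by rw [hab' w, hwa]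
    -- the range of `f (a * b)` is that of `f b`
    have hab2 : f (a * b) w = f b w := by
      refine Subtype.ext ?_
      rw [hfv, hfv]
      calc a * b * (w : G) * (a * b)⁻¹ * (w : G)⁻¹ = (a * (b * w * b⁻¹) * a⁻¹) * (w : G)⁻¹ := by group
        _ = b * (a * w * a⁻¹) * b⁻¹ * (w : G)⁻¹ := by rw [hab' w]
        _ = _ := by rw [hwa]
    set R := Subgroup.zpowers (f b w) with hR
    have hR0 : R ≠ ⊥ := fun he => hwb (Subgroup.zpowers_eq_bot.1 he)
    have hRb : (f b).range = R := hrangeEq b R (Subgroup.zpowers_le.2 ⟨w, rfl⟩) hR0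
    have hRab : (f (a * b)).range = R :=
      hrangeEq (a * b) R (Subgroup.zpowers_le.2 ⟨w, hab2⟩) hR0
    have hRker : R ≤ (f a).ker := Subgroup.zpowers_le.2 hz
    -- so `a` acts as a transvection
    have htrans : ∀ v : V, f a v ∈ R := by
      intro v
      set v' : V := ⟨b⁻¹ * v * b, by simpa using hVn.conj_mem _ v.2 b⁻¹⟩ with hv'
      have he : f a v = f (a * b) v' * (f b v')⁻¹ := by
        refine Subtype.ext ?_
        rw [Subgroup.coe_mul, InvMemClass.coe_inv, hfv, hfv, hfv, hv']
        group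
      rw [he]
      exact R.mul_mem (hRab ▸ ⟨v', rfl⟩) (R.inv_mem (hRb ▸ ⟨v', rfl⟩))
    have hiter : ∀ (k : ℕ) (v : V), a ^ k * (v : G) * (a ^ k)⁻¹ = ((f a v : V) : G) ^ k * v := by
      intro k v
      induction k with
      | zero => simp
      | succ k ih =>
        have hd : a * ((f a v : V) : G) * a⁻¹ = f a v := by
          have h1 : f a (f a v) = 1 := hRker (htrans v)
          exact mul_inv_eq_one.1 (congrArg Subtype.val h1)
        calc a ^ (k + 1) * (v : G) * (a ^ (k + 1))⁻¹ = a * (a ^ k * v * (a ^ k)⁻¹) * a⁻¹ := by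
              rw [pow_succ']; group
          _ = a * (((f a v : V) : G) ^ k * v) * a⁻¹ := by rw [ih]
          _ = (a * ((f a v : V) : G) * a⁻¹) ^ k * (a * v * a⁻¹) := by rw [conj_pow]; group
          _ = ((f a v : V) : G) ^ k * (((f a v : V) : G) * v) := by
              rw [hd, hfv a v, inv_mul_cancel_right]
          _ = _ := by rw [pow_succ, mul_assoc]
    apply haC
    refine Subgroup.mem_centralizer_iff.2 fun v hv => ?_
    have hd : f a ⟨v, hv⟩ ^ n = 1 := by
      refine Subtype.ext ?_
      have h2 := hiter n ⟨v, hv⟩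
      have h3 := Subgroup.mem_centralizer_iff.1 han v hv
      rw [show a ^ n * (v : G) * (a ^ n)⁻¹ = v by rw [← h3]; group] at h2
      rw [SubmonoidClass.coe_pow, OneMemClass.coe_one]
      exact (eq_mul_inv_of_mul_eq h2.symm).trans (mul_inv_cancel v)
    have hd' : f a ⟨v, hv⟩ = 1 := by
      have h1 : orderOf (f a ⟨v, hv⟩) ∣ p := orderOf_dvd_of_pow_eq_one (Subtype.ext (hexp _ (f a ⟨v, hv⟩).2))
      exact orderOf_eq_one_iff.1 (Nat.eq_one_of_dvd_coprimes hn (orderOf_dvd_of_pow_eq_one hd) h1)
    have h4 : a * v * a⁻¹ = v := mul_inv_eq_one.1 (congrArg Subtype.val hd')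
    calc v * a = a * v * a⁻¹ * a := by rw [h4]
      _ = a * v := by group
  have hkbot : (f a).ker = ⊥ := by
    rw [eq_bot_iff]
    intro w hw
    have hwW : (w : G) ∈ W := by
      refine ⟨w.2, Subgroup.mem_centralizer_iff.2 fun b hb => ?_⟩
      have h1 : b * (w : G) * b⁻¹ * (w : G)⁻¹ = 1 := congrArg Subtype.val (hfixed w hw b hb)
      calc b * (w : G) = (b * w * b⁻¹) * b := by group
        _ = w * b := by rw [mul_inv_eq_one.1 h1]
    rw [hW0, Subgroup.mem_bot] at hwW
    exact Subgroup.mem_bot.2 (Subtype.ext hwW)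
  have hidx := hrange a
  rw [← Subgroup.index_ker, hkbot, Subgroup.index_bot] at hidx
  rcases (Nat.dvd_prime hp.out).1 hidx with h1 | h1
  · exact absurd (Subgroup.card_eq_one.1 h1) hV0
  · exact h1

/-- A soluble group with square-free class sizes is supersoluble. -/
theorem SqfClasses.isSupersolvable : ∀ (n : ℕ) (G : Type u) [Group G] [Finite G] [Group.IsSolvable G],
    Nat.card G ≤ n → SqfClasses G → Cfsg.IsSupersolvable G := by
  intro n
  induction n with
  | zero => intro G _ _ _ hn; exact absurd hn (by have := Nat.card_pos (α := G); omega)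
  | succ n ih =>
    intro G _ _ _ hn hG
    by_cases hnt : Nontrivial G
    swap
    · rw [not_nontrivial_iff_subsingleton] at hnt
      exact isSupersolvable_of_isNilpotent
    have htop : (⊤ : Subgroup G) ≠ ⊥ := top_ne_bot
    obtain ⟨p, hp, V, hVn, hV0, -, hVc, hVp, hexp, hmin⟩ := exists_minimal_normal_pGroup htop
    haveI := Fact.mk hp
    haveI := hVn
    have hc := hG.card_minimal hV0 hVc hVp hexp hmin
    haveI : IsCyclic V := isCyclic_of_prime_card (p := p) hc
    refine isSupersolvable_of_cyclic_normal V (ih (G ⧸ V) ?_ (hG.quotient V))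
    have h1 := V.card_mul_index
    rw [hc, Subgroup.index_eq_card] at h1
    have h2 : 0 < Nat.card (G ⧸ V) := Nat.card_pos
    nlinarith [hp.two_le]

/-- With trivial `p'`-core the derived subgroup has order dividing `p`. -/
theorem SqfClasses.card_commutator_dvd_of_core (h : SqfClasses G) [Group.IsSolvable G] {p : ℕ}
    [hp : Fact p.Prime] (hK : Cfsg.pPrimeCore p G = ⊥) : Nat.card (commutator G) ∣ p := by
  classical
  have hss := SqfClasses.isSupersolvable _ G le_rfl h
  set P := Cfsg.pCore p G with hP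
  have hPp : IsPGroup p P := Cores.isPGroup_pCore p G
  have hF : Cfsg.fittingSubgroup G ≤ P := by
    rw [Cores.fittingSubgroup_eq_iSup_pCore]
    refine iSup_le fun q => ?_
    by_cases hq : (q : ℕ) = p
    · rw [hq]
    · haveI := Fact.mk q.2
      obtain ⟨k, hk⟩ := IsPGroup.iff_card.1 (Cores.isPGroup_pCore (q : ℕ) G)
      have hle := Cores.le_pPrimeCore (p := p) (Cores.pCore_normal (q : ℕ) G)
        (hk ▸ ((Nat.coprime_primes q.2 hp.out).2 hq).pow_left k)
      rw [hK] at hle
      exact hle.trans bot_le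
  have hGP : commutator G ≤ P :=
    (Cores.le_fittingSubgroup inferInstance (supersolvable_isNilpotent_commutator hss)).trans hF
  have hCP : Subgroup.centralizer (P : Set G) ≤ P := centralizer_pCore_le_of_isSolvable hK
  -- `P` is the Sylow subgroup
  obtain ⟨S⟩ : Nonempty (Sylow p G) := inferInstance
  have hPS : P ≤ S := Cores.pCore_le_sylow S
  haveI hSn : (S : Subgroup G).Normal := by
    constructor
    intro s hs g
    have hc : ⁅g, s⁆ ∈ (S : Subgroup G) :=
      hPS (hGP (Subgroup.commutator_mem_commutator (Subgroup.mem_top g) (Subgroup.mem_top s)))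
    have e : g * s * g⁻¹ = ⁅g, s⁆ * s := by rw [commutatorElement_def]; group
    rw [e]
    exact (S : Subgroup G).mul_mem hc hs
  have hSP : (S : Subgroup G) = P := le_antisymm (Cores.le_pCore hSn S.2) hPS
  have hcop : (Nat.card P).Coprime P.index := by
    rw [← hSP]; exact S.card_coprime_index
  obtain ⟨H, hH⟩ := Subgroup.exists_right_complement'_of_coprime hcop
  -- `p`-group case
  by_cases hH1 : H = ⊥
  · have hGp : IsPGroup p G := by
      have he : P = ⊤ := by
        have := hH.sup_eq_top
        rwa [hH1, sup_bot_eq] at this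
      exact fun g => by
        obtain ⟨k, hk⟩ := hPp ⟨g, he ▸ Subgroup.mem_top g⟩
        exact ⟨k, congrArg Subtype.val hk⟩
    have hb := Cfsg.Agent.S3777.result hGp 1 fun x => by
      have h1 : (Subgroup.centralizer ({x} : Set G)).index ∣ p := by
        obtain ⟨k, hk⟩ := IsPGroup.iff_card.1 hGp
        obtain ⟨i, -, hi⟩ := (Nat.dvd_prime_pow hp.out).1
          (hk ▸ (Subgroup.centralizer ({x} : Set G)).index_dvd_card)
        have hsq := h x
        rw [hi] at hsq ⊢
        rcases i with _ | _ | i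
        · simp
        · simp
        · exact absurd (Nat.isUnit_iff.1 (hsq p ⟨p ^ i, by ring⟩)) hp.out.ne_one
      simpa using Nat.le_of_dvd hp.out.pos h1
    obtain ⟨k, hk⟩ := IsPGroup.iff_card.1 (hGp.to_subgroup (commutator G))
    rw [hk] at hb ⊢
    have : k ≤ 1 := by
      have h2 : p ^ k ≤ p ^ 1 := by simpa using hb
      exact (Nat.pow_le_pow_iff_right hp.out.one_lt).1 h2
    exact (pow_dvd_pow p this).trans (by simp)
  -- the complement is abelian and faithful
  have hdisj : ∀ x, x ∈ P → x ∈ H → x = 1 := fun x hx hx' =>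
    Subgroup.mem_bot.1 (hH.disjoint.le_bot ⟨hx, hx'⟩)
  have hHab : ∀ a ∈ H, ∀ b ∈ H, a * b = b * a := by
    intro a ha b hb
    have h1 : ⁅a, b⁆ = 1 := hdisj _
      (hGP (Subgroup.commutator_mem_commutator (Subgroup.mem_top a) (Subgroup.mem_top b)))
      (H.mul_mem (H.mul_mem (H.mul_mem ha hb) (H.inv_mem ha)) (H.inv_mem hb))
    exact commutatorElement_eq_one_iff_mul_comm.1 h1
  have hfaith : ∀ a ∈ H, (∀ x ∈ P, a * x = x * a) → a = 1 := fun a ha hax =>
    hdisj a (hCP (Subgroup.mem_centralizer_iff.2 fun x hx => (hax x hx).symm)) ha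
  have hHcard : Nat.card H = P.index := hH.symm.index_eq_card.symm
  -- `[P, a]` is a normal subgroup of order `p`
  set Q : G → Subgroup G := fun a => ⁅P, Subgroup.zpowers a⁆ with hQ
  have hidx : ∀ a ∈ H, a ≠ 1 →
      (Subgroup.centralizer ({a} : Set G)).relIndex P = p := by
    intro a ha ha1
    refine ((Nat.dvd_prime hp.out).1 (h.relIndex_dvd_prime hPp a)).resolve_left fun h1 => ha1 ?_
    rw [Subgroup.relIndex_eq_one] at h1
    exact hfaith a ha fun x hx => (Subgroup.mem_centralizer_singleton_iff.1 (h1 hx)).symm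
  have hzP : ∀ a : G, Subgroup.zpowers a ≤ Subgroup.normalizer (P : Set G) := fun a x _ => by
    rw [Subgroup.normalizer_eq_top_iff.2 inferInstance]; exact Subgroup.mem_top x
  have hcopa : ∀ a ∈ H, (Nat.card (Subgroup.zpowers a)).Coprime (Nat.card P) := fun a ha =>
    Nat.Coprime.coprime_dvd_left (Subgroup.card_dvd_of_le (Subgroup.zpowers_le.2 ha))
      (hHcard ▸ hcop.symm)
  have hcl : ∀ a : G, Subgroup.centralizer (Subgroup.zpowers a : Set G) =
      Subgroup.centralizer ({a} : Set G) := fun a => by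
    rw [Subgroup.zpowers_eq_closure, Subgroup.centralizer_closure]
  have hQcard : ∀ a ∈ H, a ≠ 1 → Nat.card (Q a) = p := by
    intro a ha ha1
    refine Coprime.card_commutator_of_relIndex_eq_prime (hzP a) (hcopa a ha)
      (Or.inl inferInstance) hp.out ?_
    rw [inf_comm, Subgroup.inf_relIndex_right, hcl]
    exact hidx a ha ha1
  have hQmem : ∀ a, ∀ x ∈ P, ⁅x, a⁆ ∈ Q a := fun a x hx =>
    Subgroup.commutator_mem_commutator hx (Subgroup.mem_zpowers a)
  have hQnorm : ∀ a ∈ H, (Q a).Normal := by
    intro a ha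
    rw [← Subgroup.normalizer_eq_top_iff, eq_top_iff, ← hH.sup_eq_top, sup_le_iff]
    constructor
    · exact Subgroup.normalizer_commutator_ge_left P (Subgroup.zpowers a)
    · refine Coprime.le_normalizer_commutator (fun x _ => ?_) (fun x hx => ?_)
      · rw [Subgroup.normalizer_eq_top_iff.2 inferInstance]; exact Subgroup.mem_top x
      · refine Subgroup.centralizer_le_normalizer _ (Subgroup.mem_centralizer_iff.2 fun z hz => ?_)
        obtain ⟨i, rfl⟩ := Subgroup.mem_zpowers_iff.1 hz
        exact ((show Commute a x from hHab a ha x hx).zpow_left i).eq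
  have hQeq : ∀ a ∈ H, a ≠ 1 → ∀ x ∈ Q a, x ≠ 1 → Q a = Subgroup.zpowers x := by
    intro a ha ha1 x hx hx1
    refine (Subgroup.eq_of_le_of_card_ge (Subgroup.zpowers_le.2 hx) ?_).symm
    rw [hQcard a ha ha1]
    rcases (Nat.dvd_prime hp.out).1 (hQcard a ha ha1 ▸
      Subgroup.card_dvd_of_le (Subgroup.zpowers_le.2 hx)) with h1 | h1
    · rw [Nat.card_zpowers, orderOf_eq_one_iff] at h1; exact absurd h1 hx1
    · exact h1.ge
  have hQnc : ∀ a ∈ H, a ≠ 1 → ¬ Q a ≤ Subgroup.centralizer ({a} : Set G) := by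
    intro a ha ha1 hle
    have h1 : ⁅Q a, Subgroup.zpowers a⁆ = ⊥ :=
      Subgroup.commutator_eq_bot_iff_le_centralizer.2 (hle.trans (hcl a).ge)
    have h3 : ⁅Q a, Subgroup.zpowers a⁆ = Q a :=
      Coprime.commutator_commutator_eq (hzP a) (hcopa a ha) (Or.inl inferInstance)
    have h2 := hQcard a ha ha1
    rw [← h3, h1, Subgroup.card_bot] at h2
    exact hp.out.one_lt.ne h2
  -- elements of `P` commuting with one element of `H ∖ 1` commute with `H`
  have hfix : ∀ a ∈ H, a ≠ 1 → ∀ b ∈ H, ∀ c ∈ P, c * a = a * c → c * b = b * c := by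
    intro a ha ha1 b hb c hc hca
    by_contra hcb
    have hab' : a * b = b * a := hHab a ha b hb
    have hb1 : b ≠ 1 := fun he => hcb (by simp [he])
    have hab1 : a * b ≠ 1 := fun he => hcb (by
      rw [eq_inv_of_mul_eq_one_right he]
      exact (show Commute c a from hca).inv_right.eq)
    have hz1 : ⁅c, b⁆ ≠ 1 := fun he => hcb (commutatorElement_eq_one_iff_mul_comm.1 he)
    have hza : Commute a ⁅c, b⁆ := by
      rw [commutatorElement_def]
      exact (((show Commute a c from hca.symm).mul_right (show Commute a b from hab')).mul_right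
        (show Commute a c from hca.symm).inv_right).mul_right
        (show Commute a b from hab').inv_right
    have hcab : ⁅c, a * b⁆ = ⁅c, b⁆ := by
      calc ⁅c, a * b⁆ = ⁅c, a⁆ * (a * ⁅c, b⁆ * a⁻¹) := by
            simp only [commutatorElement_def]; group
        _ = ⁅c, b⁆ := by
            rw [commutatorElement_eq_one_iff_mul_comm.2 hca, one_mul, hza.eq, mul_inv_cancel_right]
    have hQb := hQeq b hb hb1 _ (hQmem b c hc) hz1
    have hQab : Q (a * b) = Q b := by
      rw [hQb, hQeq (a * b) (H.mul_mem ha hb) hab1 _ (hQmem _ c hc) (hcab ▸ hz1), hcab]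
    haveI := hQnorm b hb
    set π := QuotientGroup.mk' (Q b) with hπ
    set K := (Subgroup.centralizer ((P.map π : Subgroup (G ⧸ Q b)) : Set (G ⧸ Q b))).comap π with hKdef
    have hKmem : ∀ t : G, (∀ x ∈ P, ⁅x, t⁆ ∈ Q b) → t ∈ K := by
      intro t ht
      refine Subgroup.mem_centralizer_iff.2 fun w hw => ?_
      obtain ⟨x, hx, rfl⟩ := Subgroup.mem_map.1 hw
      refine commutatorElement_eq_one_iff_mul_comm.1 ?_
      rw [← map_commutatorElement, hπ, QuotientGroup.mk'_apply, QuotientGroup.eq_one_iff]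
      exact ht x hx
    have hbK : b ∈ K := hKmem b (hQmem b)
    have habK : a * b ∈ K := hKmem _ (fun x hx => hQab ▸ hQmem (a * b) x hx)
    have haK : a ∈ K := by simpa using K.mul_mem habK (K.inv_mem hbK)
    have hQa : Q a ≤ Q b := by
      rw [hQ, Subgroup.commutator_le]
      intro x hx g hg
      have hgK : g ∈ K := Subgroup.zpowers_le.2 haK hg
      show ⁅x, g⁆ ∈ Q b
      rw [← QuotientGroup.eq_one_iff (N := Q b), ← QuotientGroup.mk'_apply, ← hπ,
        map_commutatorElement, commutatorElement_eq_one_iff_mul_comm]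
      exact Subgroup.mem_centralizer_iff.1 hgK _ (Subgroup.mem_map_of_mem π hx)
    have hQa' : Q a = Q b := Subgroup.eq_of_le_of_card_ge hQa
      (by rw [hQcard a ha ha1, hQcard b hb hb1])
    refine hQnc a ha ha1 ?_
    rw [hQa', hQb, Subgroup.zpowers_le, Subgroup.mem_centralizer_singleton_iff]
    exact hza.eq.symm
  -- conclusion
  obtain ⟨a, ha, ha1⟩ := (Subgroup.bot_or_exists_ne_one H).resolve_left hH1
  set C0 := P ⊓ Subgroup.centralizer ({a} : Set G) with hC0
  have hC0P : C0 ≤ P := inf_le_left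
  have hC0idx : C0.relIndex P = p := by
    rw [hC0, inf_comm, Subgroup.inf_relIndex_right]; exact hidx a ha ha1
  have hC0ab : ∀ c ∈ C0, ∀ d ∈ C0, c * d = d * c := by
    intro c hc d hd
    have hac : Commute a c := (Subgroup.mem_centralizer_singleton_iff.1 hc.2).symm
    set C1 := P ⊓ Subgroup.centralizer ({a * c} : Set G) with hC1
    have hle : C1 ≤ C0 := by
      intro x hx
      refine ⟨hx.1, Subgroup.mem_centralizer_singleton_iff.2 ?_⟩
      have hxac : Commute x (a * c) := Subgroup.mem_centralizer_singleton_iff.1 hx.2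
      -- `a` is a power of `a * c`
      have hco : (orderOf a).Coprime (orderOf c) := by
        refine Nat.Coprime.coprime_dvd_left (Subgroup.orderOf_dvd_natCard H ha) ?_
        exact (hHcard ▸ hcop.symm).coprime_dvd_right (Subgroup.orderOf_dvd_natCard P hc.1)
      obtain ⟨k, hk⟩ := exists_pow_eq_self_of_coprime hco.symm
      have he : a = (a * c) ^ (orderOf c * k) := by
        rw [hac.mul_pow, pow_mul, pow_mul, hk, pow_orderOf_eq_one, one_pow, mul_one]
      rw [he]
      exact (hxac.pow_right _).eq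
    have h1 : C1.relIndex C0 * C0.relIndex P = C1.relIndex P := Subgroup.relIndex_mul_relIndex _ _ _ hle hC0P
    have h2 : C1.relIndex P ∣ p := by
      rw [hC1, inf_comm, Subgroup.inf_relIndex_right]; exact h.relIndex_dvd_prime hPp _
    rw [← h1, hC0idx] at h2
    have h3 : C1.relIndex C0 = 1 := by
      have h4 : C1.relIndex C0 * p ∣ 1 * p := by simpa using h2
      exact Nat.dvd_one.1 ((Nat.mul_dvd_mul_iff_right hp.out.pos).1 h4)
    have hdac : Commute d (a * c) :=
      Subgroup.mem_centralizer_singleton_iff.1 ((Subgroup.relIndex_eq_one.1 h3) hd).2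
    have hda : Commute d a := Subgroup.mem_centralizer_singleton_iff.1 hd.2
    have h5 : Commute d (a⁻¹ * (a * c)) := hda.inv_right.mul_right hdac
    rw [inv_mul_cancel_left] at h5
    exact h5.eq.symm
  have hT : ∀ x ∈ C0 ⊔ H, ∀ y ∈ C0 ⊔ H, x * y = y * x := by
    have hCH : ∀ c ∈ C0, ∀ b ∈ H, c * b = b * c := fun c hc b hb =>
      hfix a ha ha1 b hb c hc.1 (Subgroup.mem_centralizer_singleton_iff.1 hc.2)
    have h1 : C0 ⊔ H ≤ Subgroup.centralizer (C0 : Set G) :=
      sup_le (fun x hx => Subgroup.mem_centralizer_iff.2 fun y hy => hC0ab y hy x hx)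
        (fun x hx => Subgroup.mem_centralizer_iff.2 fun y hy => hCH y hy x hx)
    have h2 : C0 ⊔ H ≤ Subgroup.centralizer (H : Set G) :=
      sup_le (fun x hx => Subgroup.mem_centralizer_iff.2 fun y hy => (hCH x hx y hy).symm)
        (fun x hx => Subgroup.mem_centralizer_iff.2 fun y hy => hHab y hy x hx)
    have h3 : C0 ⊔ H ≤ Subgroup.centralizer ((C0 ⊔ H : Subgroup G) : Set G) :=
      Subgroup.le_centralizer_iff.1 (sup_le (Subgroup.le_centralizer_iff.1 h1) (Subgroup.le_centralizer_iff.1 h2))
    exact fun x hx y hy => (Subgroup.mem_centralizer_iff.1 (h3 hx) y hy).symm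
  have hPeq : Q a ⊔ C0 = P := by
    have hle : Q a ⊔ C0 ≤ P := sup_le (Subgroup.commutator_le_left P _) hC0P
    refine le_antisymm hle (Subgroup.relIndex_eq_one.1 ?_)
    have h1 : C0.relIndex (Q a ⊔ C0) * (Q a ⊔ C0).relIndex P = C0.relIndex P :=
      Subgroup.relIndex_mul_relIndex _ _ _ le_sup_right hle
    rw [hC0idx] at h1
    rcases (Nat.dvd_prime hp.out).1 (Dvd.intro_left _ h1) with h2 | h2
    · exact h2
    · exfalso
      rw [h2] at h1
      have h3 : C0.relIndex (Q a ⊔ C0) = 1 := by
        have := hp.out.pos; nlinarith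
      exact hQnc a ha ha1 ((le_sup_left.trans (Subgroup.relIndex_eq_one.1 h3)).trans inf_le_right)
  haveI := hQnorm a ha
  have hcle : commutator G ≤ Q a := by
    set π := QuotientGroup.mk' (Q a) with hπ
    have hsurj : (C0 ⊔ H).map π = ⊤ := by
      have h0 : (Q a).map π = ⊥ := by rw [Subgroup.map_eq_bot_iff, hπ, QuotientGroup.ker_mk']
      have h1 : Q a ⊔ (C0 ⊔ H) = ⊤ := by rw [← sup_assoc, hPeq, hH.sup_eq_top]
      have h2 := congrArg (Subgroup.map π) h1
      rwa [Subgroup.map_sup, h0, bot_sup_eq,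
        Subgroup.map_top_of_surjective π (QuotientGroup.mk'_surjective _)] at h2
    rw [commutator_def, Subgroup.commutator_le]
    intro x _ y _
    obtain ⟨s, hs, hs'⟩ := Subgroup.mem_map.1 (hsurj ▸ Subgroup.mem_top (π x))
    obtain ⟨t, ht, ht'⟩ := Subgroup.mem_map.1 (hsurj ▸ Subgroup.mem_top (π y))
    rw [← QuotientGroup.eq_one_iff (N := Q a), ← QuotientGroup.mk'_apply, ← hπ,
      map_commutatorElement, ← hs', ← ht', ← map_commutatorElement,
      commutatorElement_eq_one_iff_mul_comm.2 (hT s hs t ht), map_one]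
  exact (Subgroup.card_dvd_of_le hcle).trans (hQcard a ha ha1).dvd

/-- The derived subgroup has square-free order. -/
theorem SqfClasses.squarefree_card_commutator (h : SqfClasses G) [Group.IsSolvable G] :
    Squarefree (Nat.card (commutator G)) := by
  rw [Nat.squarefree_iff_prime_squarefree]
  intro p hp hd
  haveI := Fact.mk hp
  set K := Cfsg.pPrimeCore p G
  set π := QuotientGroup.mk' K with hπ
  have h1 := (h.quotient K).card_commutator_dvd_of_core (p := p) (Cores.pPrimeCore_quotient_self p)
  rw [commutator_def, ← Subgroup.map_top_of_surjective π (QuotientGroup.mk'_surjective K),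
    ← Subgroup.map_commutator, ← commutator_def] at h1
  have h2 : Nat.card ((commutator G).map π) * Nat.card (π.ker ⊓ commutator G : Subgroup G) =
      Nat.card (commutator G) := by
    have := (π.comp (commutator G).subtype).ker.card_mul_index
    rw [Subgroup.index_ker, MonoidHom.range_comp, Subgroup.range_subtype] at this
    rw [← this, mul_comm]
    congr 1
    rw [← Subgroup.card_map_of_injective (K := (π.comp (commutator G).subtype).ker)
      (commutator G).subtype_injective, ← MonoidHom.comap_ker]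
    show _ = Nat.card ↥((π.ker.subgroupOf (commutator G)).map (commutator G).subtype)
    rw [Subgroup.subgroupOf_map_subtype]
  have h3 : (p * p).Coprime (Nat.card (π.ker ⊓ commutator G : Subgroup G)) := by
    refine Nat.Coprime.coprime_dvd_right (Subgroup.card_dvd_of_le inf_le_left) ?_
    rw [hπ, QuotientGroup.ker_mk']
    exact Nat.Coprime.mul_left (Cores.coprime_card_pPrimeCore p).symm
      (Cores.coprime_card_pPrimeCore p).symm
  have h4 := Nat.le_of_dvd hp.pos ((h3.dvd_of_dvd_mul_right (h2 ▸ hd)).trans h1)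
  nlinarith [hp.two_le]

/-- Structure of a soluble group with square-free class sizes. -/
theorem SqfClasses.structure_of_solvable (h : SqfClasses G) [Group.IsSolvable G] :
    Cfsg.IsSupersolvable G ∧ (Cfsg.fittingSubgroup G).Normal ∧
    (∀ _h : (Cfsg.fittingSubgroup G).Normal, IsCyclic (G ⧸ Cfsg.fittingSubgroup G) ∧
      Squarefree (Cfsg.fittingSubgroup G).index) ∧
    IsCyclic (commutator G) ∧ Squarefree (Nat.card (commutator G)) ∧
    Subgroup.upperCentralSeries ↥(Cfsg.fittingSubgroup G) 2 = ⊤ ∧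
    commutator ↥(commutator G) = ⊥ := by
  classical
  have hss := SqfClasses.isSupersolvable _ G le_rfl h
  haveI hFn : (Cfsg.fittingSubgroup G).Normal := inferInstance
  have hsqf := h.squarefree_card_commutator
  haveI : Group.IsNilpotent (commutator G) := supersolvable_isNilpotent_commutator hss
  haveI : IsZGroup (commutator G) := IsZGroup.of_squarefree hsqf
  have hcyc : IsCyclic (commutator G) := inferInstance
  have hF : commutator G ≤ Cfsg.fittingSubgroup G :=
    Cores.le_fittingSubgroup inferInstance inferInstance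
  obtain ⟨y, hy⟩ := (Subgroup.isCyclic_iff_exists_zpowers_eq_top (commutator G)).1 hcyc
  -- `C(G')` is nilpotent
  set D := Subgroup.centralizer (commutator G : Set G) with hD
  have hDnil : Group.IsNilpotent D := by
    have h2 : commutator D ≤ Subgroup.center D := by
      rw [commutator_def, Subgroup.commutator_le]
      intro x _ z _
      rw [Subgroup.mem_center_iff]
      intro w
      apply Subtype.ext
      rw [Subgroup.coe_mul, Subgroup.coe_mul]
      refine (Subgroup.mem_centralizer_iff.1 w.2 _ ?_).symm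
      exact Subgroup.commutator_mem_commutator (Subgroup.mem_top (x : G)) (Subgroup.mem_top (z : G))
    refine ⟨2, eq_top_iff.2 fun x _ => ?_⟩
    rw [Subgroup.mem_upperCentralSeries_succ_iff]
    intro z
    rw [Subgroup.upperCentralSeries_one]
    exact h2 (Subgroup.commutator_mem_commutator (Subgroup.mem_top x) (Subgroup.mem_top z))
  have hDF : D ≤ Cfsg.fittingSubgroup G := Cores.le_fittingSubgroup inferInstance hDnil
  have hidx : Squarefree (Cfsg.fittingSubgroup G).index := by
    refine (h y).squarefree_of_dvd ?_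
    refine (Subgroup.index_dvd_of_le hDF).trans ?_
    have : D = Subgroup.centralizer ({y} : Set G) := by
      rw [hD, ← hy, Subgroup.zpowers_eq_closure, Subgroup.centralizer_closure]
    rw [this]
  refine ⟨hss, hFn, fun _ => ⟨?_, hidx⟩, hcyc, hsqf, ?_, ?_⟩
  · haveI : IsZGroup (G ⧸ Cfsg.fittingSubgroup G) :=
      IsZGroup.of_squarefree (by rwa [← Subgroup.index_eq_card])
    haveI : Group.IsNilpotent (G ⧸ Cfsg.fittingSubgroup G) := by
      letI : CommGroup (G ⧸ Cfsg.fittingSubgroup G) :=
        { (inferInstance : Group (G ⧸ Cfsg.fittingSubgroup G)) with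
          mul_comm := fun a b => by
            induction a using QuotientGroup.induction_on with | _ a => ?_
            induction b using QuotientGroup.induction_on with | _ b => ?_
            rw [← commutatorElement_eq_one_iff_mul_comm, ← QuotientGroup.mk'_apply,
              ← QuotientGroup.mk'_apply, ← map_commutatorElement, QuotientGroup.mk'_apply,
              QuotientGroup.eq_one_iff]
            exact hF (Subgroup.commutator_mem_commutator (Subgroup.mem_top a) (Subgroup.mem_top b)) }
      infer_instance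
    infer_instance
  · haveI : Group.IsNilpotent (Cfsg.fittingSubgroup G) :=
      Cores.isNilpotent_of_le_fittingSubgroup le_rfl
    set Z := commutator G ⊓ Subgroup.centralizer (Cfsg.fittingSubgroup G : Set G) with hZ
    have hdvd : Nat.card (commutator G) ∣ Nat.card Z := by
      rw [← Nat.prod_primeFactors_of_squarefree hsqf]
      refine Finset.prod_primes_dvd _ (fun q hq => (Nat.prime_of_mem_primeFactors hq).prime)
        fun q hq => ?_
      have hqp := Nat.prime_of_mem_primeFactors hq
      haveI := Fact.mk hqp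
      obtain ⟨x, hx⟩ := exists_prime_orderOf_dvd_card' q (Nat.dvd_of_mem_primeFactors hq)
      have hxN : ((Subgroup.zpowers (x : G))).Normal := by
        refine ⟨fun n hn g => ?_⟩
        obtain ⟨i, hi⟩ := Subgroup.mem_zpowers_iff.1 (hy.symm ▸ x.2 : (x : G) ∈ Subgroup.zpowers y)
        have hyG : y ∈ commutator G := by rw [← hy]; exact Subgroup.mem_zpowers y
        have hgy : g * y * g⁻¹ ∈ Subgroup.zpowers y := by
          rw [hy]; exact (inferInstance : (commutator G).Normal).conj_mem _ hyG g
        obtain ⟨j, hj⟩ := Subgroup.mem_zpowers_iff.1 hgy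
        obtain ⟨k, rfl⟩ := Subgroup.mem_zpowers_iff.1 hn
        refine Subgroup.mem_zpowers_iff.2 ⟨j * k, ?_⟩
        rw [← conj_zpow, zpow_mul]
        congr 1
        rw [← hi, ← conj_zpow, ← hj, ← zpow_mul, ← zpow_mul, mul_comm]
      set N := (Subgroup.zpowers (x : G)).subgroupOf (Cfsg.fittingSubgroup G) with hN
      have hxF : (x : G) ∈ Cfsg.fittingSubgroup G := hF x.2
      have hxox : orderOf (x : G) = q := (Subgroup.orderOf_coe x).trans hx
      have hNcard : Nat.card N = q := by
        rw [hN, Cores.card_subgroupOf (Subgroup.zpowers_le.2 hxF), Nat.card_zpowers, hxox]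
      have hN1 : N ≠ ⊥ := fun he => hqp.ne_one (by rw [← hNcard, he, Subgroup.card_bot])
      have hNc : N ≤ Subgroup.center (Cfsg.fittingSubgroup G) := by
        have h1 := Cores.inf_center_ne_bot N hN1
        have h2 := Subgroup.eq_of_le_of_card_ge (inf_le_left : N ⊓ Subgroup.center _ ≤ N) ?_
        · exact h2 ▸ inf_le_right
        rw [hNcard]
        rcases (Nat.dvd_prime hqp).1 (hNcard ▸ Subgroup.card_dvd_of_le
          (inf_le_left : N ⊓ Subgroup.center _ ≤ N)) with h3 | h3
        · exact absurd (Subgroup.card_eq_one.1 h3) h1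
        · exact h3.ge
      have hxZ : (x : G) ∈ Z := by
        refine ⟨x.2, Subgroup.mem_centralizer_iff.2 fun f hf => ?_⟩
        exact congrArg Subtype.val (Subgroup.mem_center_iff.1
          (hNc (show (⟨x, hxF⟩ : Cfsg.fittingSubgroup G) ∈ N from Subgroup.mem_zpowers _)) ⟨f, hf⟩)
      exact hxox ▸ Subgroup.orderOf_dvd_natCard Z hxZ
    have hZeq : Z = commutator G := Subgroup.eq_of_le_of_card_ge inf_le_left (Nat.le_of_dvd Nat.card_pos hdvd)
    refine eq_top_iff.2 fun x _ => ?_
    rw [Subgroup.mem_upperCentralSeries_succ_iff]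
    intro z
    rw [Subgroup.upperCentralSeries_one, Subgroup.mem_center_iff]
    intro w
    have h1 : ⁅(x : G), (z : G)⁆ ∈ Z :=
      hZeq ▸ Subgroup.commutator_mem_commutator (Subgroup.mem_top (x : G)) (Subgroup.mem_top (z : G))
    exact Subtype.ext (Subgroup.mem_centralizer_iff.1 h1.2 _ w.2)
  · refine le_bot_iff.1 ?_
    rw [_root_.commutator_def (G := ↥(commutator G)), Subgroup.commutator_le]
    intro a _ b _
    letI := IsCyclic.commGroup (α := commutator G)
    rw [Subgroup.mem_bot, commutatorElement_eq_one_iff_mul_comm]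
    exact mul_comm a b

end Cfsg.Agent.SquarefreeClasses
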